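import Cfsg.Agent.Mrg.Omega.OM.TV.OfT
import Cfsg.Agent.Mrg.Omega.OM.PT.Seven


/-!
# TEXT W2 (5)-(8) (helper918 #24006): the points-level frame is contradictory

`PTW.false` : `PTW Z U B` is contradictory; any orders of `Z 0`, `Z 1`.
-/

set_option autoImplicit false
set_option linter.unusedSectionVars false

namespace Cfsg.Agent.Omega.OM.PT

open Subgroup Cfsg Cfsg.Agent.ZN Cfsg.Agent.Omega.MinPar
open scoped Pointwise

universe u

variable {G : Type u} [Group G] [Finite G] {Z U : Fin 2 → Subgroup G} {B : Subgroup G}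

/-- **TEXT W2 (5)-(8)** -/
theorem PTW.false (D : PTW Z U B) : False := D.false_of_sockets D.six D.seven

end Cfsg.Agent.Omega.OM.PT
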