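import Cfsg.Agent.Mrg.Omega.OM.PT.Exact
import Cfsg.Agent.Mrg.Omega.OM.PT.Pc


/-!
# The points-level frame of TEXT W2 (helper918 #24006, #24444): two types of points, no swap

`PTW Z U B` : all inputs of (5)-(8) of TEXT W2, over points `Z i` (the centres or the lines of the centres) and lines
`U i = V i` (natural `SL₂(q_i)`-modules); `B` a 2-group (a Sylow 2-subgroup of `C_G(Z 0 Z 1)`).

* `PTW.false_of` : TEXT W2 (8).
-/

set_option autoImplicit false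
set_option linter.unusedSectionVars false

namespace Cfsg.Agent.Omega.OM.PT

open Subgroup Cfsg Cfsg.Agent.ZN Cfsg.Agent.Omega.MinPar
open Cfsg.Agent.Omega.OM.PG (HH QQ HH_conj QQ_conj conj_inv_conj inv_conj_conj)
open Cfsg.Agent.Omega.NO3S.EThree.ExactA (eab_iff eab_sup eab_mono)
open Cfsg.Agent.Omega.NoFF.Basic (conj_conj mem_conj conj_le_iff conj_le_centralizer comm_symm comm_mono)
open scoped Pointwise

universe u

variable {G : Type u} [Group G]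

/-- **The points-level frame of TEXT W2.** -/
structure PTW (Z U : Fin 2 → Subgroup G) (B : Subgroup G) : Prop extends PP Z U where
  /-- (0.1) -/
  ti : TIp Z
  /-- (0.2) -/
  fus2 : Fus2 Z
  sqU : ∀ i, IsElementaryAbelian 2 (U i)
  /-- a point of type `i` in `U i` -/
  tr : ∀ (i : Fin 2) (k : G), MulAut.conj k • Z i ≤ U i → ∃ l : G, MulAut.conj l • Z i = MulAut.conj k • Z i ∧
    MulAut.conj l • Z (i + 1) = Z (i + 1) ∧ MulAut.conj l • U i = U i ∧ MulAut.conj l • U (i + 1) = U (i + 1)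
  /-- the points of type `i` in `U i` cover `U i` -/
  pts : Pts Z U
  /-- `Q_i` acts freely on `U i / Z i`, `|U i| = |Z i|²` -/
  rt : RtU Z U
  /-- `X_i` is elementary abelian -/
  ab : ∀ i, IsElementaryAbelian 2 (XW Z U (Z i))
  le : ∀ i, XW Z U (Z i) ≤ QQ (Z i)
  cen : ∀ i, QQ (Z i) ≤ centralizer (Z i : Set G)
  /-- (NO) for `Q_{i+1}` on `N_i` -/
  no : NoP Z
  /-- (G1) -/
  g1 : ThmC2 Z (XW Z U)
  /-- `O₂(N_G(Z i) / C(N_i)) = 1` -/
  core : ∀ i, Pc.CoreP Z i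
  /-- (4) THEOREM I -/
  inter : NN Z (Z 0) ⊓ NN Z (Z 1) ≤ Z 0 ⊔ Z 1
  B2 : IsPGroup 2 B
  BH : ∀ i, B ≤ HH (Z i)
  BU : ∀ i, ∀ x ∈ U i, ∀ b ∈ B, b * x * b⁻¹ * x⁻¹ ∈ Z i
  Bfix : ∀ i, ∀ n ∈ NN Z (Z i), (∀ b ∈ B, b * n * b⁻¹ = n) → n ∈ Z 0 ⊔ Z 1
  /-- the torus of `L_i` on `Z i` -/
  torZ : ∀ i, ∀ x ∈ Z i, x ≠ 1 → ∀ y ∈ Z i, y ≠ 1 → ∃ h : G, h ∈ centralizer (U (i + 1) : Set G) ∧
    MulAut.conj h • Z i = Z i ∧ MulAut.conj h • U i = U i ∧ h * x * h⁻¹ = y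
  /-- the torus of `L_i` on `U i / Z i` -/
  torU : ∀ i, ∀ x ∈ U i, x ∉ Z i → ∀ y ∈ U i, y ∉ Z i → ∃ h : G, h ∈ centralizer (U (i + 1) : Set G) ∧
    MulAut.conj h • Z i = Z i ∧ MulAut.conj h • U i = U i ∧ y⁻¹ * (h * x * h⁻¹) ∈ Z i

namespace PTW

variable [Finite G] {Z U : Fin 2 → Subgroup G} {B : Subgroup G} (D : PTW Z U B)
include D

omit [Finite G] in
theorem tr' : Tr Z U := fun i k hk => by
  obtain ⟨l, h1, h2, -⟩ := D.tr i k hk
  exact ⟨l, h1, h2⟩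

/-- TEXT W2 (8) : `[X_i, N_{i+1}] = 1` for `i = 0, 1` is impossible -/
theorem false_of (hPC : ∀ i, XW Z U (Z i) ≤ centralizer (NN Z (Z (i + 1)) : Set G)) : False :=
  false_of_pc D.toPP D.tr' D.ti D.pts D.sqU D.rt D.ab D.le D.no D.g1 D.inter D.fus2 hPC

/-- if `X_j` centralises `N_{j+1}`, then `X_{j+1}` centralises `N_j` ((G1)) -/
theorem other {j : Fin 2} (h : XW Z U (Z j) ≤ centralizer (NN Z (Z (j + 1)) : Set G)) :
    XW Z U (Z (j + 1)) ≤ centralizer (NN Z (Z j) : Set G) := by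
  have F := xf D.toPP D.ab D.le
  have hj := isPt Z j
  have hj1 := isPt Z (j + 1)
  have hadj : Adj Z (Z j) (Z (j + 1)) := adj Z j
  have hadj' : Adj Z (Z (j + 1)) (Z j) := hadj.symm
  -- `X_j ≤ Q_{j+1}`
  have h1 : XW Z U (Z j) ≤ QQ (Z (j + 1)) := D.f3 hadj' (F.XQ _ hj) h
  -- `[X_{j+1}, X_j] ≤ Z (j+1) ≤ N_j`
  refine D.g1 (Z j) hj _ ((MinSimple.VModule.o2_isPGroup _).to_le (F.XQ _ hj1))
    ((F.XQ _ hj1).trans (D.QQ_le_cent_of_adj hadj)) fun x hx g hg => ?_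
  have h2 := F.com _ hj1 g hg x (h1 hx)
  have h3 : x * g * x⁻¹ * g⁻¹ = (g * x * g⁻¹ * x⁻¹)⁻¹ := by group
  rw [h3]
  exact inv_mem (hadj.le_NN h2)

/-- one side of PC is enough -/
theorem false_of_one {j : Fin 2} (h : XW Z U (Z j) ≤ centralizer (NN Z (Z (j + 1)) : Set G)) : False := by
  refine D.false_of fun i => ?_
  rcases eq_or j i with rfl | rfl
  · exact h
  · rw [add2]
    exact D.other h

/-- **the tree of TEXT W2 (5)-(8)**: `six` = (6), `seven` = (7) for one type -/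
theorem false_of_sockets (six : NN Z (Z 0) ≤ centralizer (NN Z (Z 1) : Set G))
    (seven : (∀ a u : Subgroup G, Adj Z a u → Com Z a u) →
      ∃ j, XW Z U (Z j) ≤ centralizer (NN Z (Z (j + 1)) : Set G)) : False := by
  have hcom : ∀ a u : Subgroup G, Adj Z a u → Com Z a u := by
    rintro a u ⟨i, k, rfl, rfl⟩
    have h1 : Com Z (Z i) (Z (i + 1)) := by
      rcases eq_or 0 i with rfl | rfl
      · exact six
      · exact comm_symm six
    change NN Z _ ≤ centralizer (NN Z _ : Set G)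
    rw [NN_conj, NN_conj]
    exact conj_le_centralizer h1
  obtain ⟨j, hj⟩ := seven hcom
  exact D.false_of_one hj

end PTW

end Cfsg.Agent.Omega.OM.PT
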